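import Mathlib
import Groth.Prelude.Def_DefoSh2
import Groth.Agent.Lib.Lead.Misc2.DefoIso

/-!
# First-order deformations of a module: stalkwise facts (helper5, for S17440)
-/

set_option autoImplicit false
set_option linter.style.haveILetI false
universe u
open CategoryTheory CategoryTheory.Limits AlgebraicGeometry TopologicalSpace Opposite

namespace Groth.Agent.H5.DefoLoc

/-- a morphism of modules which is bijective on all stalks is an isomorphism. -/
theorem isIso_of_bijective_stalk {Y : Scheme.{u}} {M N : Y.Modules} (φ : M ⟶ N)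
    (h : ∀ y : Y, Function.Bijective (RefHull.stalkMapₗ φ y)) : IsIso φ := by
  haveI : Mono φ := by
    rw [Groth.Agent.H4.FlatPull1.mono_iff_stalk]
    intro x
    rw [ModuleCat.mono_iff_injective]
    exact (h x).1
  exact Groth.Agent.LD.NoethObj.isIso_of_surjAt φ (fun y => (h y).2)

/-- a morphism of modules which is surjective on all stalks is an epimorphism. -/
theorem epi_of_surjective_stalk {Y : Scheme.{u}} {M N : Y.Modules} (φ : M ⟶ N)
    (h : ∀ y : Y, Function.Surjective (RefHull.stalkMapₗ φ y)) : Epi φ := by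
  rw [Groth.Agent.H4.FlatPull1.epi_iff_stalk]
  intro x
  rw [ModuleCat.epi_iff_surjective]
  exact h x

section Alg

variable {k : Type u} [Field k]

theorem fst_eq_zero_of_eps_mul (a : DualNumber k) (h : (DualNumber.eps : DualNumber k) * a = 0) :
    a.fst = 0 := by
  have h1 := congrArg TrivSqZeroExt.snd h
  rw [DualNumber.snd_mul] at h1
  simpa using h1

theorem eq_eps_mul (a : DualNumber k) (h : a.fst = 0) :
    a = (DualNumber.eps : DualNumber k) * (TrivSqZeroExt.inl a.snd : DualNumber k) := by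
  apply TrivSqZeroExt.ext
  · rw [TrivSqZeroExt.fst_mul, h]; simp
  · rw [DualNumber.snd_mul]; simp

theorem alg_flat {M : Type*} [AddCommGroup M] [Module (DualNumber k) M]
    [Module.Flat (DualNumber k) M] (v : M) (hv : (DualNumber.eps : DualNumber k) • v = 0) :
    ∃ w : M, v = (DualNumber.eps : DualNumber k) • w := by
  have hrel : ∑ i : Unit, (fun _ : Unit => (DualNumber.eps : DualNumber k)) i •
      (fun _ : Unit => v) i = 0 := by
    simp only [Finset.univ_unique, Finset.sum_singleton]
    exact hv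
  obtain ⟨n, a, y, hy, ha⟩ := Module.Flat.isTrivialRelation_of_sum_smul_eq_zero hrel
  have hv' : v = ∑ j, a () j • y j := hy ()
  refine ⟨∑ j, (TrivSqZeroExt.inl (a () j).snd : DualNumber k) • y j, ?_⟩
  rw [hv', Finset.smul_sum]
  apply Finset.sum_congr rfl
  intro j _
  have haj : (DualNumber.eps : DualNumber k) * a () j = 0 := by
    have := ha j
    simpa using this
  rw [← mul_smul, ← eq_eps_mul _ (fst_eq_zero_of_eps_mul _ haj)]

theorem alg_max {M : Type*} [AddCommGroup M] [Module (DualNumber k) M] [IsLocalRing (DualNumber k)]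
    (v : M) (hv : v ∈ IsLocalRing.maximalIdeal (DualNumber k) • (⊤ : Submodule (DualNumber k) M)) :
    ∃ w : M, v = (DualNumber.eps : DualNumber k) • w := by
  refine Submodule.smul_induction_on hv ?_ ?_
  · intro r hr n _
    have hr0 : r.fst = 0 := by
      have h1 : ¬ IsUnit r := hr
      rw [TrivSqZeroExt.isUnit_iff_isUnit_fst] at h1
      by_contra hne
      exact h1 (isUnit_iff_ne_zero.mpr hne)
    refine ⟨(TrivSqZeroExt.inl r.snd : DualNumber k) • n, ?_⟩
    rw [← mul_smul, ← eq_eps_mul r hr0]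
  · rintro x y ⟨wx, rfl⟩ ⟨wy, rfl⟩
    exact ⟨wx + wy, (smul_add _ _ _).symm⟩

end Alg

section Dual

variable {k : Type u} [Field k] {X : Scheme.{u}} [X.Over (Spec (CommRingCat.of k))]
  {E : X.Modules} (D : DefoSh.Defo E (ArtFun.Art.dual k k))

/-- `ε` as an element of the Artinian algebra. -/
abbrev epsA : (ArtFun.Art.dual k k) := (DualNumber.eps : DualNumber k)

/-- multiplication by `ε` on the deformed module. -/
noncomputable abbrev epsD : D.sheaf ⟶ D.sheaf := D.act (epsA (k := k))

theorem epsD_comp_π : epsD D ≫ D.π = 0 := D.act_π _ rfl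

theorem epsD_comp_epsD : epsD D ≫ epsD D = 0 := by
  have h0 : (epsA (k := k)) * epsA = 0 := DualNumber.eps_mul_eps
  have h : D.act (epsA (k := k) * epsA) = 0 := by
    rw [h0, map_zero]
  rw [map_mul] at h
  exact h

theorem π_epsD_apply (p : X) (w : ↑(D.sheaf.presheaf.stalk p)) :
    RefHull.stalkMapₗ D.π p (RefHull.stalkMapₗ (epsD D) p w) = 0 := by
  rw [← DefoSh.stalkMapₗ_comp_apply, epsD_comp_π, DefoSh.stalkMapₗ_zero_apply]

theorem epsD_epsD_apply (p : X) (w : ↑(D.sheaf.presheaf.stalk p)) :
    RefHull.stalkMapₗ (epsD D) p (RefHull.stalkMapₗ (epsD D) p w) = 0 := by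
  rw [← DefoSh.stalkMapₗ_comp_apply, epsD_comp_epsD, DefoSh.stalkMapₗ_zero_apply]

/-- (X2): an element of the stalk reducing to zero is a multiple of `ε`. -/
theorem exists_eps_of_π_eq_zero (p : X) (v : ↑(D.sheaf.presheaf.stalk p))
    (hv : RefHull.stalkMapₗ D.π p v = 0) :
    ∃ w : ↑(D.sheaf.presheaf.stalk p), v = RefHull.stalkMapₗ (epsD D) p w := by
  have hmem := D.ker_le p v hv
  exact @alg_max k _ _ _ (D.stalkMod p) (ArtFun.Art.dual k k).isLocalRing v hmem

/-- (X1): an element of the stalk killed by `ε` reduces to zero. -/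
theorem π_eq_zero_of_eps_eq_zero (p : X) (v : ↑(D.sheaf.presheaf.stalk p))
    (hv : RefHull.stalkMapₗ (epsD D) p v = 0) : RefHull.stalkMapₗ D.π p v = 0 := by
  obtain ⟨w, hw⟩ := @alg_flat k _ _ _ (D.stalkMod p) (D.flat p) v hv
  have hw' : v = RefHull.stalkMapₗ (epsD D) p w := hw
  rw [hw', π_epsD_apply]

end Dual

end Groth.Agent.H5.DefoLoc
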