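import Mathlib
import Groth.Prelude.Def_DefoSh2
import Groth.Agent.Lib.Helper5.DefoLoc.A

/-!
# Stalks of restrictions to an open subscheme (helper5, for S17440)
-/

set_option autoImplicit false
set_option linter.style.haveILetI false
universe u
open CategoryTheory CategoryTheory.Limits AlgebraicGeometry TopologicalSpace Opposite

namespace Groth.Agent.H5.DefoLoc

section Bridge

variable {X : Scheme.{u}} (U : X.Opens)

/-- the comparison of the stalk of the restriction with the stalk. -/
noncomputable def bri (M : X.Modules) (p' : ↥U) :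
    ↑((M.restrict U.ι).presheaf.stalk p') →+ ↑(M.presheaf.stalk (U.ι p')) :=
  ((Scheme.Modules.restrictStalkNatIso U.ι p').hom.app M).hom

noncomputable def briInv (M : X.Modules) (p' : ↥U) :
    ↑(M.presheaf.stalk (U.ι p')) →+ ↑((M.restrict U.ι).presheaf.stalk p') :=
  ((Scheme.Modules.restrictStalkNatIso U.ι p').inv.app M).hom

theorem briInv_bri (M : X.Modules) (p' : ↥U) (v : ↑((M.restrict U.ι).presheaf.stalk p')) :
    briInv U M p' (bri U M p' v) = v := by
  have h := (Scheme.Modules.restrictStalkNatIso U.ι p').hom_inv_id_app M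
  exact congrArg (fun f => f.hom v) h

theorem bri_briInv (M : X.Modules) (p' : ↥U) (w : ↑(M.presheaf.stalk (U.ι p'))) :
    bri U M p' (briInv U M p' w) = w := by
  have h := (Scheme.Modules.restrictStalkNatIso U.ι p').inv_hom_id_app M
  exact congrArg (fun f => f.hom w) h

theorem bri_injective (M : X.Modules) (p' : ↥U) : Function.Injective (bri U M p') :=
  Function.LeftInverse.injective (briInv_bri U M p')

theorem bri_nat {M N : X.Modules} (g : M ⟶ N) (p' : ↥U)
    (v : ↑((M.restrict U.ι).presheaf.stalk p')) :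
    bri U N p' (RefHull.stalkMapₗ ((Scheme.Modules.restrictFunctor U.ι).map g) p' v) =
      RefHull.stalkMapₗ g (U.ι p') (bri U M p' v) := by
  have h := (Scheme.Modules.restrictStalkNatIso U.ι p').hom.naturality g
  exact congrArg (fun f => f.hom v) h

end Bridge

section Dual

variable {k : Type u} [Field k] {X : Scheme.{u}} [X.Over (Spec (CommRingCat.of k))]
  {E : X.Modules} (D : DefoSh.Defo E (ArtFun.Art.dual k k)) (U : X.Opens)

/-- (S1) -/
theorem res_π_eq_zero_of_eps_eq_zero (p' : ↥U) (v : ↑((D.sheaf.restrict U.ι).presheaf.stalk p'))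
    (hv : RefHull.stalkMapₗ ((Scheme.Modules.restrictFunctor U.ι).map (epsD D)) p' v = 0) :
    RefHull.stalkMapₗ ((Scheme.Modules.restrictFunctor U.ι).map D.π) p' v = 0 := by
  apply bri_injective U E p'
  rw [bri_nat, map_zero]
  apply π_eq_zero_of_eps_eq_zero
  rw [← bri_nat, hv, map_zero]

/-- (S2) -/
theorem res_exists_eps_of_π_eq_zero (p' : ↥U)
    (v : ↑((D.sheaf.restrict U.ι).presheaf.stalk p'))
    (hv : RefHull.stalkMapₗ ((Scheme.Modules.restrictFunctor U.ι).map D.π) p' v = 0) :
    ∃ w : ↑((D.sheaf.restrict U.ι).presheaf.stalk p'),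
      v = RefHull.stalkMapₗ ((Scheme.Modules.restrictFunctor U.ι).map (epsD D)) p' w := by
  have h1 : RefHull.stalkMapₗ D.π (U.ι p') (bri U D.sheaf p' v) = 0 := by
    rw [← bri_nat, hv, map_zero]
  obtain ⟨w₀, hw₀⟩ := exists_eps_of_π_eq_zero D (U.ι p') _ h1
  refine ⟨briInv U D.sheaf p' w₀, ?_⟩
  apply bri_injective U D.sheaf p'
  rw [bri_nat, bri_briInv, hw₀]

end Dual

end Groth.Agent.H5.DefoLoc
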