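import Mathlib
import Groth.Prelude.Def_DefoSh2
import Groth.Agent.Lib.Helper5.DefoLoc.B
import Groth.Agent.Lib.Lead.QC.FreeHom

/-!
# Local triviality of first-order deformations of vector bundles (helper5, for S17440)
-/

set_option autoImplicit false
set_option linter.style.haveILetI false
universe u
open CategoryTheory CategoryTheory.Limits AlgebraicGeometry TopologicalSpace Opposite

namespace Groth.Agent.H5.DefoLoc

section N

variable {X : Scheme.{u}} (U : X.Opens)

/-- the restriction of multiplication by a global function is multiplication by a function. -/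
theorem res_smulModΓ_app (M : X.Modules) (r : Coh.Γtop X) (W : U.toScheme.Opens)
    (m : Γ(M.restrict U.ι, W)) :
    ((Scheme.Modules.restrictFunctor U.ι).map (Formal.smulModΓ M r)).app W m =
      ((U.ι.appIso W).hom (X.presheaf.map (homOfLE (le_top : U.ι ''ᵁ W ≤ ⊤)).op r)) • m := by
  have h1 : ((Scheme.Modules.restrictFunctor U.ι).map (Formal.smulModΓ M r)).app W m =
      ((U.ι.appIso W).inv ((U.ι.appIso W).hom
        (X.presheaf.map (homOfLE (le_top : U.ι ''ᵁ W ≤ ⊤)).op r))) •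
        (show Γ(M, U.ι ''ᵁ W) from m) := by
    rw [Iso.hom_inv_id_apply]
    rfl
  exact h1

/-- multiplication by a global function commutes with all morphisms between restrictions. -/
theorem res_smulModΓ_comm {M N : X.Modules} (r : Coh.Γtop X)
    (h : M.restrict U.ι ⟶ N.restrict U.ι) :
    (Scheme.Modules.restrictFunctor U.ι).map (Formal.smulModΓ M r) ≫ h =
      h ≫ (Scheme.Modules.restrictFunctor U.ι).map (Formal.smulModΓ N r) := by
  refine Scheme.Modules.hom_ext _ _ fun W => ?_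
  ext m
  change h.app W (((Scheme.Modules.restrictFunctor U.ι).map (Formal.smulModΓ M r)).app W m) =
    ((Scheme.Modules.restrictFunctor U.ι).map (Formal.smulModΓ N r)).app W (h.app W m)
  rw [res_smulModΓ_app, res_smulModΓ_app, Scheme.Modules.Hom.app_smul]

end N

end Groth.Agent.H5.DefoLoc

namespace Groth.Agent.H5.DefoLoc

theorem conj_lemma {C : Type*} [Category C] {A B : C} (e' : A ⟶ B) [IsIso e'] (dA : B ⟶ B)
    (tA : A ⟶ A) (key : e' ≫ dA = tA ≫ e') : dA ≫ inv e' = inv e' ≫ tA := by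
  rw [IsIso.comp_inv_eq, Category.assoc, IsIso.eq_inv_comp, key]

section Main

variable (k : Type u) [Field k] {X : Scheme.{u}} [X.Over (Spec (CommRingCat.of k))]
  (E : X.Modules)

theorem dual_decomp (a : DualNumber k) :
    a = algebraMap k (DualNumber k) a.fst + a.snd • (DualNumber.eps : DualNumber k) := by
  apply TrivSqZeroExt.ext
  · simp [TrivSqZeroExt.algebraMap_eq_inl]
  · simp [TrivSqZeroExt.algebraMap_eq_inl]

variable {k E} in
theorem act_decomp (D' : DefoSh.Defo E (ArtFun.Art.dual k k)) (a : ArtFun.Art.dual k k) :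
    D'.act a = Formal.smulMod k D'.sheaf (TrivSqZeroExt.fst (a : DualNumber k)) +
      Formal.smulMod k D'.sheaf (TrivSqZeroExt.snd (a : DualNumber k)) ≫ epsD D' := by
  have h0 : a = algebraMap k (ArtFun.Art.dual k k) (TrivSqZeroExt.fst (a : DualNumber k)) +
      (TrivSqZeroExt.snd (a : DualNumber k)) • (epsA (k := k)) := dual_decomp k a
  have h1 : D'.act a = D'.act (algebraMap k (ArtFun.Art.dual k k) (TrivSqZeroExt.fst (a : DualNumber k)) +
      (TrivSqZeroExt.snd (a : DualNumber k)) • (epsA (k := k))) := congrArg D'.act h0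
  rw [h1, map_add, map_smul, DefoSh.Defo.act_algebraMap]
  rfl

variable {k E} in
theorem main (hE : FlatMod.IsFinLocFree E) (D : DefoSh.Defo E (ArtFun.Art.dual k k)) (x : X) :
    ∃ (U : X.Opens) (e : D.sheaf.restrict U.ι ≅ (DefoSh.Defo.trivDual k E).sheaf.restrict U.ι),
      x ∈ U ∧
      e.hom ≫ (Scheme.Modules.restrictFunctor U.ι).map (DefoSh.Defo.trivDual k E).π =
        (Scheme.Modules.restrictFunctor U.ι).map D.π ∧
      ∀ a : ArtFun.Art.dual k k, (Scheme.Modules.restrictFunctor U.ι).map (D.act a) ≫ e.hom =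
        e.hom ≫ (Scheme.Modules.restrictFunctor U.ι).map ((DefoSh.Defo.trivDual k E).act a) := by
  haveI : Epi D.π := epi_of_surjective_stalk D.π D.surj
  obtain ⟨U, s, hxU, hs⟩ := Groth.Agent.LD.QC.exists_local_lift_of_isFinLocFree D.π (𝟙 E) hE x
  let F := Scheme.Modules.restrictFunctor U.ι
  have hs' : s ≫ F.map D.π = 𝟙 (F.obj E) := by rw [hs]; exact F.map_id E
  have hεπ : F.map (epsD D) ≫ F.map D.π = 0 := by
    rw [← F.map_comp, epsD_comp_π, F.map_zero]
  have hεε : F.map (epsD D) ≫ F.map (epsD D) = 0 := by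
    rw [← F.map_comp, epsD_comp_epsD, F.map_zero]
  let e' : F.obj (E ⊞ E) ⟶ F.obj D.sheaf :=
    F.map biprod.fst ≫ s + F.map biprod.snd ≫ s ≫ F.map (epsD D)
  -- `e'` is an isomorphism
  haveI : IsIso e' := by
    apply isIso_of_bijective_stalk
    intro p'
    have he' : ∀ t, RefHull.stalkMapₗ e' p' t =
        RefHull.stalkMapₗ s p' (RefHull.stalkMapₗ (F.map biprod.fst) p' t) +
        RefHull.stalkMapₗ (F.map (epsD D)) p' (RefHull.stalkMapₗ s p'
          (RefHull.stalkMapₗ (F.map biprod.snd) p' t)) := by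
      intro t
      rw [DefoSh.stalkMapₗ_add_apply, DefoSh.stalkMapₗ_comp_apply, DefoSh.stalkMapₗ_comp_apply,
        DefoSh.stalkMapₗ_comp_apply]
    have hπs : ∀ a, RefHull.stalkMapₗ (F.map D.π) p' (RefHull.stalkMapₗ s p' a) = a := by
      intro a
      rw [← DefoSh.stalkMapₗ_comp_apply, hs', DefoSh.stalkMapₗ_id_apply]
    have hπε : ∀ v, RefHull.stalkMapₗ (F.map D.π) p' (RefHull.stalkMapₗ (F.map (epsD D)) p' v) = 0 := by
      intro v
      rw [← DefoSh.stalkMapₗ_comp_apply, hεπ, DefoSh.stalkMapₗ_zero_apply]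
    have hεεa : ∀ v, RefHull.stalkMapₗ (F.map (epsD D)) p'
        (RefHull.stalkMapₗ (F.map (epsD D)) p' v) = 0 := by
      intro v
      rw [← DefoSh.stalkMapₗ_comp_apply, hεε, DefoSh.stalkMapₗ_zero_apply]
    have htot : ∀ t, RefHull.stalkMapₗ (F.map (biprod.inl : E ⟶ E ⊞ E)) p'
          (RefHull.stalkMapₗ (F.map (biprod.fst : E ⊞ E ⟶ E)) p' t) +
        RefHull.stalkMapₗ (F.map (biprod.inr : E ⟶ E ⊞ E)) p'
          (RefHull.stalkMapₗ (F.map (biprod.snd : E ⊞ E ⟶ E)) p' t) = t := by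
      intro t
      rw [← DefoSh.stalkMapₗ_comp_apply, ← DefoSh.stalkMapₗ_comp_apply,
        ← DefoSh.stalkMapₗ_add_apply, ← F.map_comp, ← F.map_comp, ← F.map_add, biprod.total,
        F.map_id, DefoSh.stalkMapₗ_id_apply]
    have h11 : ∀ a, RefHull.stalkMapₗ (F.map (biprod.fst : E ⊞ E ⟶ E)) p'
        (RefHull.stalkMapₗ (F.map (biprod.inl : E ⟶ E ⊞ E)) p' a) = a := by
      intro a
      rw [← DefoSh.stalkMapₗ_comp_apply, ← F.map_comp, biprod.inl_fst, F.map_id,
        DefoSh.stalkMapₗ_id_apply]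
    have h12 : ∀ a, RefHull.stalkMapₗ (F.map (biprod.snd : E ⊞ E ⟶ E)) p'
        (RefHull.stalkMapₗ (F.map (biprod.inl : E ⟶ E ⊞ E)) p' a) = 0 := by
      intro a
      rw [← DefoSh.stalkMapₗ_comp_apply, ← F.map_comp, biprod.inl_snd, F.map_zero,
        DefoSh.stalkMapₗ_zero_apply]
    have h21 : ∀ a, RefHull.stalkMapₗ (F.map (biprod.fst : E ⊞ E ⟶ E)) p'
        (RefHull.stalkMapₗ (F.map (biprod.inr : E ⟶ E ⊞ E)) p' a) = 0 := by
      intro a
      rw [← DefoSh.stalkMapₗ_comp_apply, ← F.map_comp, biprod.inr_fst, F.map_zero,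
        DefoSh.stalkMapₗ_zero_apply]
    have h22 : ∀ a, RefHull.stalkMapₗ (F.map (biprod.snd : E ⊞ E ⟶ E)) p'
        (RefHull.stalkMapₗ (F.map (biprod.inr : E ⟶ E ⊞ E)) p' a) = a := by
      intro a
      rw [← DefoSh.stalkMapₗ_comp_apply, ← F.map_comp, biprod.inr_snd, F.map_id,
        DefoSh.stalkMapₗ_id_apply]
    constructor
    · rw [injective_iff_map_eq_zero]
      intro t ht
      rw [he'] at ht
      have h1 := congrArg (RefHull.stalkMapₗ (F.map D.π) p') ht
      rw [map_add, hπs, hπε, add_zero, map_zero] at h1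
      rw [h1, map_zero, zero_add] at ht
      have h2 := res_π_eq_zero_of_eps_eq_zero D U p' _ ht
      rw [hπs] at h2
      rw [← htot t, h1, h2, map_zero, map_zero, add_zero]
    · intro v
      obtain ⟨a, ha⟩ : ∃ a, a = RefHull.stalkMapₗ (F.map D.π) p' v := ⟨_, rfl⟩
      have hv1 : RefHull.stalkMapₗ (F.map D.π) p' (v - RefHull.stalkMapₗ s p' a) = 0 := by
        rw [map_sub, hπs, ha, sub_self]
      obtain ⟨w, hw⟩ := res_exists_eps_of_π_eq_zero D U p' _ hv1
      obtain ⟨b, hb⟩ : ∃ b, b = RefHull.stalkMapₗ (F.map D.π) p' w := ⟨_, rfl⟩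
      have hw1 : RefHull.stalkMapₗ (F.map D.π) p' (w - RefHull.stalkMapₗ s p' b) = 0 := by
        rw [map_sub, hπs, hb, sub_self]
      obtain ⟨w', hw'⟩ := res_exists_eps_of_π_eq_zero D U p' _ hw1
      have hw2 : RefHull.stalkMapₗ (F.map (epsD D)) p' w =
          RefHull.stalkMapₗ (F.map (epsD D)) p' (RefHull.stalkMapₗ s p' b) := by
        have := congrArg (RefHull.stalkMapₗ (F.map (epsD D)) p') hw'
        rw [hεεa, map_sub, sub_eq_zero] at this
        exact this
      refine ⟨RefHull.stalkMapₗ (F.map (biprod.inl : E ⟶ E ⊞ E)) p' a +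
        RefHull.stalkMapₗ (F.map (biprod.inr : E ⟶ E ⊞ E)) p' b, ?_⟩
      have hfs : RefHull.stalkMapₗ (F.map (biprod.fst : E ⊞ E ⟶ E)) p'
          (RefHull.stalkMapₗ (F.map (biprod.inl : E ⟶ E ⊞ E)) p' a +
            RefHull.stalkMapₗ (F.map (biprod.inr : E ⟶ E ⊞ E)) p' b) = a := by
        rw [map_add, h11, h21, add_zero]
      have hsn : RefHull.stalkMapₗ (F.map (biprod.snd : E ⊞ E ⟶ E)) p'
          (RefHull.stalkMapₗ (F.map (biprod.inl : E ⟶ E ⊞ E)) p' a +
            RefHull.stalkMapₗ (F.map (biprod.inr : E ⟶ E ⊞ E)) p' b) = b := by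
        rw [map_add, h12, h22, zero_add]
      rw [he', hfs, hsn, ← hw2, ← hw]
      abel
  -- compatibilities
  have hc1 : e' ≫ F.map D.π = F.map (biprod.fst : E ⊞ E ⟶ E) := by
    change (F.map biprod.fst ≫ s + F.map biprod.snd ≫ s ≫ F.map (epsD D)) ≫ F.map D.π = _
    rw [Preadditive.add_comp, Category.assoc, Category.assoc, Category.assoc, hs', hεπ,
      comp_zero, comp_zero, add_zero, Category.comp_id]
  have hN : ∀ c : k, e' ≫ F.map (Formal.smulMod k D.sheaf c) =
      F.map (Formal.smulMod k (E ⊞ E) c) ≫ e' := fun c =>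
    (res_smulModΓ_comm U _ e').symm
  have hεT : epsD (DefoSh.Defo.trivDual k E) = (biprod.fst : E ⊞ E ⟶ E) ≫ biprod.inr :=
    DefoSh.dualAct_eps E
  have hε' : e' ≫ F.map (epsD D) = F.map ((biprod.fst : E ⊞ E ⟶ E) ≫ biprod.inr) ≫ e' := by
    change (F.map biprod.fst ≫ s + F.map biprod.snd ≫ s ≫ F.map (epsD D)) ≫ F.map (epsD D) =
      F.map (biprod.fst ≫ biprod.inr) ≫
        (F.map biprod.fst ≫ s + F.map biprod.snd ≫ s ≫ F.map (epsD D))
    rw [Preadditive.add_comp, Preadditive.comp_add, Category.assoc, Category.assoc,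
      Category.assoc, hεε, comp_zero, comp_zero, add_zero, F.map_comp, Category.assoc,
      Category.assoc, ← F.map_comp_assoc biprod.inr biprod.fst, biprod.inr_fst, F.map_zero,
      zero_comp, comp_zero, zero_add, ← F.map_comp_assoc biprod.inr biprod.snd, biprod.inr_snd,
      F.map_id, Category.id_comp]
  clear_value e'
  refine ⟨U, (asIso e').symm, hxU, ?_, ?_⟩
  · change inv e' ≫ F.map (biprod.fst : E ⊞ E ⟶ E) = F.map D.π
    rw [IsIso.inv_comp_eq, hc1]
  · intro a
    obtain ⟨c₁, hc₁⟩ : ∃ c : k, c = TrivSqZeroExt.fst (a : DualNumber k) := ⟨_, rfl⟩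
    obtain ⟨c₂, hc₂⟩ : ∃ c : k, c = TrivSqZeroExt.snd (a : DualNumber k) := ⟨_, rfl⟩
    have hdA : @Eq (D.sheaf ⟶ D.sheaf) (D.act a)
        (Formal.smulMod k D.sheaf c₁ + Formal.smulMod k D.sheaf c₂ ≫ epsD D) := by
      rw [hc₁, hc₂]; exact act_decomp D a
    have htA : @Eq (E ⊞ E ⟶ E ⊞ E) ((DefoSh.Defo.trivDual k E).act a)
        (Formal.smulMod k (E ⊞ E) c₁ + Formal.smulMod k (E ⊞ E) c₂ ≫
          ((biprod.fst : E ⊞ E ⟶ E) ≫ biprod.inr)) := by
      rw [hc₁, hc₂]
      exact (act_decomp (DefoSh.Defo.trivDual k E) a).trans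
        (congrArg (fun z : E ⊞ E ⟶ E ⊞ E =>
          Formal.smulMod k (E ⊞ E) (TrivSqZeroExt.fst (a : DualNumber k)) +
          Formal.smulMod k (E ⊞ E) (TrivSqZeroExt.snd (a : DualNumber k)) ≫ z) hεT)
    have e1 : F.map (X := D.sheaf) (Y := D.sheaf) (D.act a) =
        F.map (Formal.smulMod k D.sheaf c₁) +
          F.map (Formal.smulMod k D.sheaf c₂) ≫ F.map (epsD D) := by
      rw [← F.map_comp, ← F.map_add]
      exact congrArg (fun z : D.sheaf ⟶ D.sheaf => F.map z) hdA
    have e2 : F.map (X := E ⊞ E) (Y := E ⊞ E) ((DefoSh.Defo.trivDual k E).act a) =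
        F.map (Formal.smulMod k (E ⊞ E) c₁) +
          F.map (Formal.smulMod k (E ⊞ E) c₂) ≫
            F.map ((biprod.fst : E ⊞ E ⟶ E) ≫ biprod.inr) := by
      rw [← F.map_comp (Formal.smulMod k (E ⊞ E) c₂), ← F.map_add]
      exact congrArg (fun z : E ⊞ E ⟶ E ⊞ E => F.map z) htA
    have key : e' ≫ F.map (X := D.sheaf) (Y := D.sheaf) (D.act a) =
        F.map (X := E ⊞ E) (Y := E ⊞ E) ((DefoSh.Defo.trivDual k E).act a) ≫ e' := by
      rw [e1, e2, Preadditive.comp_add, Preadditive.add_comp, hN, ← Category.assoc, hN,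
        Category.assoc, hε', Category.assoc]
    exact conj_lemma e' _ _ key

end Main

end Groth.Agent.H5.DefoLoc
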